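import Cfsg.Agent.TwM.Word
import Cfsg.Agent.ChAut.Sp4
import Cfsg.Agent.ChAut.TwF4
import Cfsg.Agent.Chev.EmbB2
import Cfsg.Agent.Chev.Semi
import Cfsg.Agent.Sz.Partition
import Cfsg.Agent.Sz.Models
/-! The Suzuki node of ²F₄(q): its subgroups of odd prime power order are cyclic (`cyc_sz`), so its torus lifts
(`torOk_sz`). -/

set_option autoImplicit false

namespace Cfsg.Agent.TwM

open Cfsg.Lie Cfsg.Agent.Chev Cfsg.Agent.Chev.Sys Cfsg.Agent.ChAut Matrix
open scoped commutatorElement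

section
variable {D : ChevalleyDatum} [Good D] [Conn D] {K : Type*} [Field K] {G E : Type*} [Group G] [Group E]

theorem lift_injective {Y : Sys D K G} (m : Y.Mult) (hz : zker D K = ⊥) (h : ¬ Y.UN ≤ Y.UP) :
    Function.Injective m.lift := by
  rcases BN.normal_le_or_sup ((stCover D K).bn_irreducible (stS_U_univ D K)) m.lift.ker with e | e
  · change _ ≤ (stS D K).B at e
    have := Subgroup.normal_le_normalCore.2 e
    rwa [(stCover D K).normalCore_B (stS_U_univ D K), (stS_mult D K).center_eq (stCover D K) (stS_U_univ D K), hz,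
      Subgroup.map_bot, le_bot_iff, MonoidHom.ker_eq_bot_iff] at this
  · refine absurd (fun v hv => ?_) h
    change (stS D K).B ⊔ _ = _ at e
    have e' := congrArg (Subgroup.map m.lift) e
    rw [Subgroup.map_sup, Subgroup.map_ker_self, sup_bot_eq, map_B, ← stS_U_univ, map_U, m.stS_map_lift] at e'
    obtain ⟨n, h1, h2⟩ := Y.exists_mem_N (w0 Set.univ)
    exact (Subgroup.mem_normalizer_iff.1 (Y.B_le_normalizer_UP (e' ▸ Y.N_le_grp h1)) v).2 ((w0_UP h2 v).2 hv)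

theorem PL.eq_one_of_cyc [Finite E] [Finite K] {X : Sys D K G} {Γ : Subgroup G} {τ : E →* G} {V : Subgroup E}
    (L : PL X Γ τ V) (c : X.Cover) (p : ℕ) [Fact p.Prime] [CharP K p] (hp : ¬ p ∣ Nat.card τ.ker) {J : Set (Sm D)}
    (hc : ∀ r : ℕ, r.Prime → r ≠ p → ∀ P ≤ (Lh X τ V J).map τ, IsPGroup r P → IsCyclic P) {t : E}
    (h1 : t ∈ Lh X τ V J) (h2 : τ t = 1) : t = 1 := by
  by_contra h0
  obtain ⟨r, a1, a2⟩ := Nat.exists_prime_and_dvd (orderOf_eq_one_iff.not.2 h0)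
  have a3 := orderOf_pow_orderOf_div (orderOf_pos t).ne' a2
  replace h1 := pow_mem h1 (orderOf t / r)
  replace h2 : t ^ (orderOf t / r) ∈ τ.ker := pow_mem h2 _
  generalize t ^ (orderOf t / r) = z at a3 h1 h2
  have a4 : r ≠ p := fun e => hp (e ▸ a3 ▸ Subgroup.orderOf_dvd_natCard _ h2)
  have := Fact.mk a1
  obtain ⟨R⟩ : Nonempty (Sylow r (Lh X τ V J)) := inferInstance
  obtain ⟨_, ⟨k, hk⟩, rfl⟩ := (Subgroup.closure_le (((CommGroup.primaryComponent _ p).comap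
      (Abelianization.of (G := Lh X τ V J))).map (Lh X τ V J).subtype)).2 (fun g hg => by
    obtain ⟨x, hx⟩ := hg.1
    obtain ⟨k, hk⟩ := isPGroup_UP c p ⟨_, L.up _ hx⟩
    refine ⟨⟨g, Subgroup.subset_closure hg⟩, ⟨k, ?_⟩, rfl⟩
    rw [← map_pow, ← map_one Abelianization.of]
    refine congrArg _ (Subtype.ext ?_)
    simpa [conj_pow, mul_inv_eq_one] using L.inj _ (pow_mem hx (p ^ k)) ((map_pow τ _ _).trans (congrArg Subtype.val hk))) h1
  rename_i z
  rw [Subgroup.coe_subtype, Subgroup.orderOf_coe] at a3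
  have a7 := pow_index_mem R.1 (z := z) (Subgroup.mem_center_iff.2 fun g =>
    Subtype.ext (Subgroup.mem_center_iff.1 (L.cent h2) g)) (by
      rw [← Abelianization.ker_of, MonoidHom.mem_ker, ← orderOf_eq_one_iff]
      exact Nat.eq_one_of_dvd_coprimes (((Nat.coprime_primes a1 Fact.out).2 a4).pow_right k)
        ((orderOf_map_dvd _ _).trans a3.dvd) (orderOf_dvd_of_pow_eq_one hk))
  have := hc r a1 a4 (R.1.map (τ.comp (Lh X τ V J).subtype)) (by rintro _ ⟨g, -, rfl⟩; exact ⟨_, g.2, rfl⟩)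
    (R.isPGroup'.map _)
  have a8 := ((τ.comp (Lh X τ V J).subtype).subgroupMap R.1).isMulCommutative_of_isCyclic_of_ker_le_center fun g hg =>
    Subgroup.mem_center_iff.2 fun y => Subtype.ext (Subtype.ext
      (Subgroup.mem_center_iff.1 (L.cent (congrArg Subtype.val hg)) _))
  exact R.not_dvd_index (a3.symm.dvd.trans <| orderOf_dvd_of_pow_eq_one ((Subgroup.commutator_le (H₃ := ⊥)).2 (fun a ha b hb =>
    commutatorElement_eq_one_iff_mul_comm.2 (congrArg Subtype.val (a8.is_comm.comm ⟨a, ha⟩ ⟨b, hb⟩))) a7))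

end

variable {K : Type*} [Field K] {e : ℕ} {φ : K →+* K} (hp : ((2 : ℕ) : K) = 0) (hφ : ∀ t, φ t = t ^ e)
  (h2 : ∀ t, φ (φ t) ^ 2 = t)

/-- The order of the basis. -/
def e44 : Fin 2 ⊕ Fin 2 ≃ Fin 4 :=
  ⟨Sum.elim ![0, 1] ![3, 2], ![.inl 0, .inl 1, .inr 1, .inr 0], by decide, by decide⟩

variable (K) in
/-- The four dimensional representation. -/
noncomputable def ρ4 : chevB2.SteinbergGroup K →* GL (Fin 4) K :=
  (Units.map (reindexAlgEquiv K K e44).toMonoidHom).comp (PreRep.sys_mult four_isRep).lift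

theorem ρ4_x (r : ℕ) (hr : r < chevB2.nroots) (t : K) :
    (ρ4 K ((stS chevB2 K).xN r t)).1 = 1 + t • ((e4 r).submatrix e44.symm e44.symm).map (↑) := by
  rw [show (stS chevB2 K).xN r t = chevB2.stGen K (⟨r, hr⟩ : Rt chevB2) t from xN_val _ ⟨r, hr⟩ t, ρ4,
    MonoidHom.comp_apply, Mult.lift_stGen]
  change reindexAlgEquiv K K e44 (four.y _ _) = _
  rw [four_y, map_add, map_one, map_smul]; rfl

theorem e4_eq : (List.range 8).map (fun r => (e4 r).submatrix e44.symm e44.symm) =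
    [!![0, 0, 0, 0; 0, 0, 0, 0; 0, 0, 0, 0; -1, 0, 0, 0], !![0, 0, 0, 0; 0, 0, 0, 0; -1, 0, 0, 0; 0, -1, 0, 0],
      !![0, 0, 0, 0; 1, 0, 0, 0; 0, 0, 0, 0; 0, 0, -1, 0], !![0, 0, 0, 0; 0, 0, 0, 0; 0, 1, 0, 0; 0, 0, 0, 0],
      !![0, 0, 0, 0; 0, 0, 1, 0; 0, 0, 0, 0; 0, 0, 0, 0], !![0, 1, 0, 0; 0, 0, 0, 0; 0, 0, 0, -1; 0, 0, 0, 0],
      !![0, 0, -1, 0; 0, 0, 0, -1; 0, 0, 0, 0; 0, 0, 0, 0], !![0, 0, 0, -1; 0, 0, 0, 0; 0, 0, 0, 0; 0, 0, 0, 0]] := by
  decide +kernel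

theorem m4_mul (a t b d : K) :
    !![1, a, 0, 0; 0, 1, 0, 0; 0, 0, 1, a; 0, 0, 0, 1] * (!![1, 0, 0, 0; 0, 1, t, 0; 0, 0, 1, 0; 0, 0, 0, 1] *
      (!![1, 0, b, 0; 0, 1, 0, b; 0, 0, 1, 0; 0, 0, 0, 1] * !![1, 0, 0, d; 0, 1, 0, 0; 0, 0, 1, 0; 0, 0, 0, 1])) =
      !![1, a, b + a * t, a * b + d; 0, 1, t, b; 0, 0, 1, a; 0, 0, 0, 1] ∧
    !![1, 0, 0, 0; a, 1, 0, 0; 0, 0, 1, 0; 0, 0, a, 1] * (!![1, 0, 0, 0; 0, 1, 0, 0; 0, t, 1, 0; 0, 0, 0, 1] *
      (!![1, 0, 0, 0; 0, 1, 0, 0; b, 0, 1, 0; 0, b, 0, 1] * !![1, 0, 0, 0; 0, 1, 0, 0; 0, 0, 1, 0; d, 0, 0, 1])) =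
      suzukiForm K * !![1, a, b + a * t, a * b + d; 0, 1, t, b; 0, 0, 1, a; 0, 0, 0, 1] * suzukiForm K := by
  simp [Sz.form_def, add_comm]

theorem ρ4_word [CharP K 2] (a t b d : K) :
    (ρ4 K (gword (stS chevB2 K).x [(5, a), (4, t), (6, b), (7, d)])).1 =
      !![1, a, b + a * t, a * b + d; 0, 1, t, b; 0, 0, 1, a; 0, 0, 0, 1] ∧
    (ρ4 K (gword (stS chevB2 K).x [(2, a), (3, t), (1, b), (0, d)])).1 =
      suzukiForm K * !![1, a, b + a * t, a * b + d; 0, 1, t, b; 0, 0, 1, a; 0, 0, 0, 1] * suzukiForm K := by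
  have e := e4_eq
  simp only [List.range_succ, List.range_zero, List.nil_append, List.cons_append, List.map_cons, List.map_nil,
    List.cons.injEq] at e
  obtain ⟨b0, b1, b2, b3, b4, b5, b6, b7, -⟩ := e
  simp (disch := decide) only [gword_cons', gword_nil, map_mul, Units.val_mul, mul_one, ρ4_x, b0, b1, b2, b3,
    b4, b5, b6, b7]
  refine ⟨Eq.trans ?_ (m4_mul a t b d).1, Eq.trans ?_ (m4_mul a t b d).2⟩ <;>
    refine congrArg₂ _ ?_ (congrArg₂ _ ?_ (congrArg₂ _ ?_ ?_)) <;> ext i j <;> fin_cases i <;> fin_cases j <;>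
    simp [CharTwo.neg_eq]

theorem zkerB2_eq_bot [Finite K] [CharP K 2] : zker chevB2 K = ⊥ := Subgroup.card_eq_one.1 (by
  have := Fintype.ofFinite K
  obtain ⟨n, -, hn⟩ := FiniteField.card K 2
  rw [card_zkerB2, Nat.card_eq_fintype_card, hn]
  exact (Nat.coprime_two_left.2 (Nat.Even.sub_odd (Nat.one_le_two_pow) (even_two.pow_of_ne_zero n.ne_zero) odd_one)))

theorem ρ4_injective [Finite K] [CharP K 2] : Function.Injective (ρ4 K) :=
  (Units.map_injective (reindexAlgEquiv K K e44).injective).comp (lift_injective _ zkerB2_eq_bot fun h => by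
    have h2 : ∀ u ∈ (PreRep.sys four_isRep K).UP, ∀ a, u.1 a (.inl 0) = if a = .inl 0 then 1 else 0 := fun u hu =>
      U_induction (P := fun u => ∀ a, u.1 a (.inl 0) = if a = .inl 0 then 1 else 0) (fun a => Matrix.one_apply)
        (fun r hr t y _ ih a => by
          have : ∀ r : Rt chevB2, Pos r → ∀ b, e4 r b (.inl 0) = 0 := by decide +kernel
          change (y.1 * four.y r t) a _ = _
          simp [four_y, ih, Matrix.mul_apply, this r hr]) hu
    simpa [four_y, cm_apply, show e4 2 (.inl 1) (.inl 0) = 1 by decide +kernel] using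
      h2 _ (h (x_mem_U _ (r := ⟨2, by decide⟩) (by decide +kernel) 1)) (.inl 1))

include hp hφ h2 in
theorem cyc_sz [Finite K] (hK : 2 < Nat.card K) {r : ℕ} (hr : r.Prime) (hr2 : r ≠ 2)
    {P : Subgroup (chevF4.SteinbergGroup K)} (h1 : P ≤ (stS chevF4 K).genW {w | ∃ t u,
      w = b2ClassWord e 27 25 28 30 t u ∨ w = b2ClassWord e 20 22 19 17 t u}) (h3 : IsPGroup r P) : IsCyclic P := by
  have := ringChar.of_eq (CharP.ringChar_of_prime_eq_zero Nat.prime_two hp)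
  let : Sz.Tits K := ⟨(frobenius K 2).comp φ, fun x => by simp [frobenius_def, h2], this, by
    obtain ⟨t, ht⟩ := exists_pow_ne_one (F := K) one_pos hK
    exact ⟨t, t.ne_zero, by simpa using ht⟩⟩
  have hθ : ∀ x : K, Sz.θ x = φ x ^ 2 := fun _ => rfl
  have hp0 : (embB2.p : K) = 0 := Nat.cast_zero
  have m := embB2_ok.pull_mult hp0 (RingHom.id K) (stS_mult chevF4 K)
  have a0 : ∀ r t, (embB2_ok.pull hp0 (RingHom.id K) (stS chevF4 K)).x r t = (stS chevF4 K).x (embB2_ok.ιR r) t :=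
    fun r t => by simp [TwD.Ok.a_apply, embB2, sgn]
  have i1 := lift_injective m zkerB2_eq_bot fun h => by
    have b := h (x_mem_U _ (r := ⟨2, by decide⟩) (by decide +kernel) 1)
    have b' : (embB2_ok.pull hp0 (RingHom.id K) (stS chevF4 K)).UP ≤ (stS chevF4 K).UP := U_le.2 fun r hr t => by
      rw [a0]; exact x_mem_U _ ((by decide +kernel : ∀ r, Pos r → Pos (embB2_ok.ιR r)) r hr) _
    rw [a0] at b
    exact absurd ((stCover chevF4 K).pos_of_x_mem_B one_ne_zero (UP_le_B _ (b' b))) (by decide +kernel)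
  have a1 : ∀ w : List (ℕ × K), (∀ r ∈ w.map Prod.fst, r < chevB2.nroots) → m.lift (gword (stS chevB2 K).x w) =
      gword (stS chevF4 K).x (w.map fun p => (embB2.ι p.1, p.2)) := fun w hw => by
    induction w with
    | nil => exact map_one _
    | cons p w ih =>
      rw [List.map_cons, gword_cons', gword_cons', map_mul, ih fun r hr => hw r (.tail _ hr),
        show (stS chevB2 K).xN p.1 p.2 = chevB2.stGen K (⟨p.1, hw _ (.head _)⟩ : Rt chevB2) p.2 from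
          xN_val _ ⟨p.1, hw _ (.head _)⟩ _, m.lift_stGen, a0, ← xN_val]; rfl
  have a2 : P ≤ ((Sz.SzGL K).comap (ρ4 K)).map m.lift := h1.trans (genW_le (by
    have b : ∀ t u, !![1, φ t, φ t * t + u + φ t * t, φ t * (φ t * t + u) + φ u ^ 2; 0, 1, t, φ t * t + u; 0, 0, 1, φ t;
        0, 0, 0, 1] = Sz.Smat (φ t) (φ t * t + u) := fun t u => by
      simp only [Sz.Smat, Sz.nrm, hθ, h2, map_add, map_mul, add_pow_char, mul_pow]
      congr 6; linear_combination (-(φ t ^ 2 * t)) * (CharTwo.two_eq_zero (R := K))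
    rintro _ ⟨t, u, rfl | rfl⟩ <;> simp only [b2ClassWord, pow_succ _ e, mul_comm 2 e, pow_mul, ← hφ]
    · exact ⟨_, show Sz.IsSzMat _ from ((ρ4_word ..).1.trans (b t u)) ▸ Sz.isSzMat_S _ _,
        (a1 _ (by simp only [List.map]; decide)).trans (by simp [embB2, byt])⟩
    · exact ⟨_, show Sz.IsSzMat _ from ((ρ4_word ..).2.trans (by rw [b t u])) ▸
        (Sz.isSzMat_T.mul (Sz.isSzMat_S _ _)).mul Sz.isSzMat_T, (a1 _ (by simp only [List.map]; decide)).trans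
          (by simp [embB2, byt])⟩))
  have a3 : P.comap m.lift ≤ (Sz.SzGL K).comap (ρ4 K) :=
    (Subgroup.comap_mono a2).trans (Subgroup.comap_map_eq_self_of_injective i1 _).le
  let f := ((ρ4 K).comp (P.comap m.lift).subtype).codRestrict (Sz.SzGL K) fun g => a3 g.2
  have a4 := Sz.isCyclic_of_isPGroup K hr hr2 (P := f.range)
    ((h3.comap_of_injective _ i1).of_surjective _ f.rangeRestrict_surjective)
  have a5 : IsCyclic (P.comap m.lift) := isCyclic_of_injective f.rangeRestrict fun a b e =>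
    Subtype.ext (ρ4_injective (congrArg (·.1.1) e))
  exact isCyclic_of_surjective (m.lift.subgroupComap P) fun y => by
    obtain ⟨g, -, e⟩ := a2 y.2
    exact ⟨⟨g, (e ▸ y.2 : m.lift g ∈ P)⟩, Subtype.ext e⟩

include hp hφ h2 in
theorem PL.torOk_sz [Finite K] (hK : 2 < Nat.card K) {E : Type*} [Group E] [Finite E]
    {τ : E →* chevF4.SteinbergGroup K} {V : Subgroup E} (L : PL (stS chevF4 K) ((stS chevF4 K).genW (f4Words K e)) τ V)
    (h : ¬ 2 ∣ Nat.card τ.ker) : TorOk τ V symF4 (stS_mult chevF4 K) ⟨1, by decide⟩ := fun t ht hH => by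
  have := ringChar.of_eq (CharP.ringChar_of_prime_eq_zero Nat.prime_two hp)
  have c := stCover chevF4 K
  have l := @TwD.Ok.le_of_fix _ _ K _ _ twF4_ok _ symF4_ρ hp φ
  refine ⟨((stS_mult chevF4 K).exists_tor hH).imp fun a ea => ⟨fun i hi => ?_, ea⟩, L.eq_one_of_cyc c 2 h
    (fun r hr hr2 P hP => cyc_sz hp hφ h2 hK hr hr2 (hP.trans (Subgroup.map_le_iff_le_comap.2
      ((Subgroup.closure_le _).2 fun g hg => hg.2.elim (fun b => ?_) fun b => ?_)))) ht⟩
  · obtain ⟨r, b1, b2⟩ := (by decide +kernel : ∀ i ∉ symF4.orb ⟨1, by decide⟩, ∃ r : Rt chevF4,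
      (∀ j, car j r = if j = i then 1 else 0) ∧ ∀ s ∈ [27, 25, 28, 30] ++ [20, 22, 19, 17], CommIs chevF4 2 r s []) i hi
    have b3 : τ t ∈ Subgroup.centralizer {(stS chevF4 K).x r 1} := U_le.2 (fun s hs u => by
      simpa [Subgroup.mem_centralizer_singleton_iff, xN_val] using ((stS chevF4 K).xN_commute hp (b2 s (List.mem_append.2
        ((em (Pos s)).imp (fun e => (orbF4_1.1.2.2 s).2 ⟨e, hs⟩) fun e => (orbF4_1.2.2.2 s).2 ⟨e, hs⟩))) 1 u).eq)
      (Lh_le _ ht)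
    rw [Subgroup.mem_centralizer_singleton_iff, ← mul_inv_eq_iff_eq_mul, ea, Mult.tor_conj, ← mul_inv_eq_one, ← x_neg,
      ← Sys.add] at b3
    simpa [chi, b1, add_neg_eq_zero] using c.x_eq_one b3
  · refine l (nilp_posJ _) orbF4_1.1 (fun t ht => ?_) ⟨b, (genF4 hp hφ h2).le (L.mem g)⟩
    exact ⟨_, _, .inl ((fixF4_B hp hφ h2 (nilp_posJ _) orbF4_1.1 (by decide +kernel)).1 ht).choose_spec⟩
  · refine l (nilp_negJ _) orbF4_1.2 (fun t ht => ?_) ⟨b, (genF4 hp hφ h2).le (L.mem g)⟩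
    exact ⟨_, _, .inr ((fixF4_B hp hφ h2 (nilp_negJ _) orbF4_1.2 (by decide +kernel)).1 ht).choose_spec⟩

end Cfsg.Agent.TwM
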